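import Cfsg.Agent.H10.F3.Fns

/-!
# Kernel checks for the automorphisms of the presented Fi23, part 4a (helper10; generated)
-/

set_option autoImplicit false
set_option maxHeartbeats 0

namespace Cfsg.Agent.H10.F3

open Cfsg.Spor Cfsg.Agent.H35

theorem c4_b0 : allR chk4 31671 10 (0 * 2 ^ 10) = true := by decide +kernel
theorem c4_b1 : allR chk4 31671 10 (1 * 2 ^ 10) = true := by decide +kernel
theorem c4_b2 : allR chk4 31671 10 (2 * 2 ^ 10) = true := by decide +kernel
theorem c4_b3 : allR chk4 31671 10 (3 * 2 ^ 10) = true := by decide +kernel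
theorem c4_b4 : allR chk4 31671 10 (4 * 2 ^ 10) = true := by decide +kernel
theorem c4_b5 : allR chk4 31671 10 (5 * 2 ^ 10) = true := by decide +kernel
theorem c4_b6 : allR chk4 31671 10 (6 * 2 ^ 10) = true := by decide +kernel
theorem c4_b7 : allR chk4 31671 10 (7 * 2 ^ 10) = true := by decide +kernel
theorem pchk4_ok : pchk4 = true := by decide +kernel

end Cfsg.Agent.H10.F3
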