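import Cfsg.Agent.H10.F3.Fns

/-!
# Kernel checks for the automorphisms of the presented Fi23, part 4b (helper10; generated)
-/

set_option autoImplicit false
set_option maxHeartbeats 0

namespace Cfsg.Agent.H10.F3

open Cfsg.Spor Cfsg.Agent.H35

theorem c4_b8 : allR chk4 31671 10 (8 * 2 ^ 10) = true := by decide +kernel
theorem c4_b9 : allR chk4 31671 10 (9 * 2 ^ 10) = true := by decide +kernel
theorem c4_b10 : allR chk4 31671 10 (10 * 2 ^ 10) = true := by decide +kernel
theorem c4_b11 : allR chk4 31671 10 (11 * 2 ^ 10) = true := by decide +kernel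
theorem c4_b12 : allR chk4 31671 10 (12 * 2 ^ 10) = true := by decide +kernel
theorem c4_b13 : allR chk4 31671 10 (13 * 2 ^ 10) = true := by decide +kernel
theorem c4_b14 : allR chk4 31671 10 (14 * 2 ^ 10) = true := by decide +kernel
theorem c4_b15 : allR chk4 31671 10 (15 * 2 ^ 10) = true := by decide +kernel

end Cfsg.Agent.H10.F3
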