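import Cfsg.Agent.H10.F3.Fns

/-!
# Kernel checks for the automorphisms of the presented Fi23, part 4d (helper10; generated)
-/

set_option autoImplicit false
set_option maxHeartbeats 0

namespace Cfsg.Agent.H10.F3

open Cfsg.Spor Cfsg.Agent.H35

theorem c4_b24 : allR chk4 31671 10 (24 * 2 ^ 10) = true := by decide +kernel
theorem c4_b25 : allR chk4 31671 10 (25 * 2 ^ 10) = true := by decide +kernel
theorem c4_b26 : allR chk4 31671 10 (26 * 2 ^ 10) = true := by decide +kernel
theorem c4_b27 : allR chk4 31671 10 (27 * 2 ^ 10) = true := by decide +kernel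
theorem c4_b28 : allR chk4 31671 10 (28 * 2 ^ 10) = true := by decide +kernel
theorem c4_b29 : allR chk4 31671 10 (29 * 2 ^ 10) = true := by decide +kernel
theorem c4_b30 : allR chk4 31671 10 (30 * 2 ^ 10) = true := by decide +kernel

end Cfsg.Agent.H10.F3
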