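import Cfsg.Agent.H10.F3.Fns

/-!
# Kernel checks for the automorphisms of the presented Fi23, part 6c (helper10; generated)
-/

set_option autoImplicit false
set_option maxHeartbeats 0

namespace Cfsg.Agent.H10.F3

open Cfsg.Spor Cfsg.Agent.H35

theorem c6_b16 : allR chk6 31671 10 (16 * 2 ^ 10) = true := by decide +kernel
theorem c6_b17 : allR chk6 31671 10 (17 * 2 ^ 10) = true := by decide +kernel
theorem c6_b18 : allR chk6 31671 10 (18 * 2 ^ 10) = true := by decide +kernel
theorem c6_b19 : allR chk6 31671 10 (19 * 2 ^ 10) = true := by decide +kernel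
theorem c6_b20 : allR chk6 31671 10 (20 * 2 ^ 10) = true := by decide +kernel
theorem c6_b21 : allR chk6 31671 10 (21 * 2 ^ 10) = true := by decide +kernel
theorem c6_b22 : allR chk6 31671 10 (22 * 2 ^ 10) = true := by decide +kernel
theorem c6_b23 : allR chk6 31671 10 (23 * 2 ^ 10) = true := by decide +kernel

end Cfsg.Agent.H10.F3
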