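import Cfsg.Agent.H10.F3.Fns

/-!
# Kernel checks for the automorphisms of the presented Fi23, part R0 (helper10; generated)
-/

set_option autoImplicit false
set_option maxHeartbeats 0

namespace Cfsg.Agent.H10.F3

open Cfsg.Spor Cfsg.Agent.H35

theorem c0_b0 : allR c0f 31671 11 (0 * 2 ^ 11) = true := by decide +kernel
theorem c0_b1 : allR c0f 31671 11 (1 * 2 ^ 11) = true := by decide +kernel
theorem c0_b2 : allR c0f 31671 11 (2 * 2 ^ 11) = true := by decide +kernel
theorem c0_b3 : allR c0f 31671 11 (3 * 2 ^ 11) = true := by decide +kernel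
theorem c0_b4 : allR c0f 31671 11 (4 * 2 ^ 11) = true := by decide +kernel
theorem c0_b5 : allR c0f 31671 11 (5 * 2 ^ 11) = true := by decide +kernel
theorem c0_b6 : allR c0f 31671 11 (6 * 2 ^ 11) = true := by decide +kernel
theorem c0_b7 : allR c0f 31671 11 (7 * 2 ^ 11) = true := by decide +kernel
theorem c0_b8 : allR c0f 31671 11 (8 * 2 ^ 11) = true := by decide +kernel
theorem c0_b9 : allR c0f 31671 11 (9 * 2 ^ 11) = true := by decide +kernel
theorem c0_b10 : allR c0f 31671 11 (10 * 2 ^ 11) = true := by decide +kernel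
theorem c0_b11 : allR c0f 31671 11 (11 * 2 ^ 11) = true := by decide +kernel
theorem c0_b12 : allR c0f 31671 11 (12 * 2 ^ 11) = true := by decide +kernel
theorem c0_b13 : allR c0f 31671 11 (13 * 2 ^ 11) = true := by decide +kernel
theorem c0_b14 : allR c0f 31671 11 (14 * 2 ^ 11) = true := by decide +kernel
theorem c0_b15 : allR c0f 31671 11 (15 * 2 ^ 11) = true := by decide +kernel
theorem c0_all : ∀ q, q < 31671 → c0f q = true := by
  refine allR_blocks c0f 31671 11 16 ?_ (by norm_num)
  intro k hk
  interval_cases k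
  · exact c0_b0
  · exact c0_b1
  · exact c0_b2
  · exact c0_b3
  · exact c0_b4
  · exact c0_b5
  · exact c0_b6
  · exact c0_b7
  · exact c0_b8
  · exact c0_b9
  · exact c0_b10
  · exact c0_b11
  · exact c0_b12
  · exact c0_b13
  · exact c0_b14
  · exact c0_b15

end Cfsg.Agent.H10.F3
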