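import Cfsg.Agent.H10.F3.Fns

/-!
# Kernel checks for the automorphisms of the presented Fi23, part R1 (helper10; generated)
-/

set_option autoImplicit false
set_option maxHeartbeats 0

namespace Cfsg.Agent.H10.F3

open Cfsg.Spor Cfsg.Agent.H35

theorem crep_b0 : allR crepf 31671 11 (0 * 2 ^ 11) = true := by decide +kernel
theorem crep_b1 : allR crepf 31671 11 (1 * 2 ^ 11) = true := by decide +kernel
theorem crep_b2 : allR crepf 31671 11 (2 * 2 ^ 11) = true := by decide +kernel
theorem crep_b3 : allR crepf 31671 11 (3 * 2 ^ 11) = true := by decide +kernel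
theorem crep_b4 : allR crepf 31671 11 (4 * 2 ^ 11) = true := by decide +kernel
theorem crep_b5 : allR crepf 31671 11 (5 * 2 ^ 11) = true := by decide +kernel
theorem crep_b6 : allR crepf 31671 11 (6 * 2 ^ 11) = true := by decide +kernel
theorem crep_b7 : allR crepf 31671 11 (7 * 2 ^ 11) = true := by decide +kernel
theorem crep_b8 : allR crepf 31671 11 (8 * 2 ^ 11) = true := by decide +kernel
theorem crep_b9 : allR crepf 31671 11 (9 * 2 ^ 11) = true := by decide +kernel
theorem crep_b10 : allR crepf 31671 11 (10 * 2 ^ 11) = true := by decide +kernel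
theorem crep_b11 : allR crepf 31671 11 (11 * 2 ^ 11) = true := by decide +kernel
theorem crep_b12 : allR crepf 31671 11 (12 * 2 ^ 11) = true := by decide +kernel
theorem crep_b13 : allR crepf 31671 11 (13 * 2 ^ 11) = true := by decide +kernel
theorem crep_b14 : allR crepf 31671 11 (14 * 2 ^ 11) = true := by decide +kernel
theorem crep_b15 : allR crepf 31671 11 (15 * 2 ^ 11) = true := by decide +kernel
theorem crep_all : ∀ q, q < 31671 → crepf q = true := by
  refine allR_blocks crepf 31671 11 16 ?_ (by norm_num)
  intro k hk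
  interval_cases k
  · exact crep_b0
  · exact crep_b1
  · exact crep_b2
  · exact crep_b3
  · exact crep_b4
  · exact crep_b5
  · exact crep_b6
  · exact crep_b7
  · exact crep_b8
  · exact crep_b9
  · exact crep_b10
  · exact crep_b11
  · exact crep_b12
  · exact crep_b13
  · exact crep_b14
  · exact crep_b15
theorem c3_b0 : allR c3f 31671 11 (0 * 2 ^ 11) = true := by decide +kernel
theorem c3_b1 : allR c3f 31671 11 (1 * 2 ^ 11) = true := by decide +kernel
theorem c3_b2 : allR c3f 31671 11 (2 * 2 ^ 11) = true := by decide +kernel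
theorem c3_b3 : allR c3f 31671 11 (3 * 2 ^ 11) = true := by decide +kernel
theorem c3_b4 : allR c3f 31671 11 (4 * 2 ^ 11) = true := by decide +kernel
theorem c3_b5 : allR c3f 31671 11 (5 * 2 ^ 11) = true := by decide +kernel
theorem c3_b6 : allR c3f 31671 11 (6 * 2 ^ 11) = true := by decide +kernel
theorem c3_b7 : allR c3f 31671 11 (7 * 2 ^ 11) = true := by decide +kernel
theorem c3_b8 : allR c3f 31671 11 (8 * 2 ^ 11) = true := by decide +kernel
theorem c3_b9 : allR c3f 31671 11 (9 * 2 ^ 11) = true := by decide +kernel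
theorem c3_b10 : allR c3f 31671 11 (10 * 2 ^ 11) = true := by decide +kernel
theorem c3_b11 : allR c3f 31671 11 (11 * 2 ^ 11) = true := by decide +kernel
theorem c3_b12 : allR c3f 31671 11 (12 * 2 ^ 11) = true := by decide +kernel
theorem c3_b13 : allR c3f 31671 11 (13 * 2 ^ 11) = true := by decide +kernel
theorem c3_b14 : allR c3f 31671 11 (14 * 2 ^ 11) = true := by decide +kernel
theorem c3_b15 : allR c3f 31671 11 (15 * 2 ^ 11) = true := by decide +kernel
theorem c3_all : ∀ q, q < 31671 → c3f q = true := by
  refine allR_blocks c3f 31671 11 16 ?_ (by norm_num)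
  intro k hk
  interval_cases k
  · exact c3_b0
  · exact c3_b1
  · exact c3_b2
  · exact c3_b3
  · exact c3_b4
  · exact c3_b5
  · exact c3_b6
  · exact c3_b7
  · exact c3_b8
  · exact c3_b9
  · exact c3_b10
  · exact c3_b11
  · exact c3_b12
  · exact c3_b13
  · exact c3_b14
  · exact c3_b15
theorem c5_b0 : allR c5f 31671 13 (0 * 2 ^ 13) = true := by decide +kernel
theorem c5_b1 : allR c5f 31671 13 (1 * 2 ^ 13) = true := by decide +kernel
theorem c5_b2 : allR c5f 31671 13 (2 * 2 ^ 13) = true := by decide +kernel
theorem c5_b3 : allR c5f 31671 13 (3 * 2 ^ 13) = true := by decide +kernel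
theorem c5_all : ∀ q, q < 31671 → c5f q = true := by
  refine allR_blocks c5f 31671 13 4 ?_ (by norm_num)
  intro k hk
  interval_cases k
  · exact c5_b0
  · exact c5_b1
  · exact c5_b2
  · exact c5_b3

end Cfsg.Agent.H10.F3
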