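import Cfsg.Agent.H10.F3.Fns

/-!
# Kernel checks for the automorphisms of the presented Fi23, part T2 (helper10; generated)
-/

set_option autoImplicit false
set_option maxHeartbeats 0

namespace Cfsg.Agent.H10.F3

open Cfsg.Spor Cfsg.Agent.H35

theorem vx_b0 : allR (vtf xT xw) 31671 11 (0 * 2 ^ 11) = true := by decide +kernel
theorem vx_b1 : allR (vtf xT xw) 31671 11 (1 * 2 ^ 11) = true := by decide +kernel
theorem vx_b2 : allR (vtf xT xw) 31671 11 (2 * 2 ^ 11) = true := by decide +kernel
theorem vx_b3 : allR (vtf xT xw) 31671 11 (3 * 2 ^ 11) = true := by decide +kernel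
theorem vx_b4 : allR (vtf xT xw) 31671 11 (4 * 2 ^ 11) = true := by decide +kernel
theorem vx_b5 : allR (vtf xT xw) 31671 11 (5 * 2 ^ 11) = true := by decide +kernel
theorem vx_b6 : allR (vtf xT xw) 31671 11 (6 * 2 ^ 11) = true := by decide +kernel
theorem vx_b7 : allR (vtf xT xw) 31671 11 (7 * 2 ^ 11) = true := by decide +kernel
theorem vx_b8 : allR (vtf xT xw) 31671 11 (8 * 2 ^ 11) = true := by decide +kernel
theorem vx_b9 : allR (vtf xT xw) 31671 11 (9 * 2 ^ 11) = true := by decide +kernel
theorem vx_b10 : allR (vtf xT xw) 31671 11 (10 * 2 ^ 11) = true := by decide +kernel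
theorem vx_b11 : allR (vtf xT xw) 31671 11 (11 * 2 ^ 11) = true := by decide +kernel
theorem vx_b12 : allR (vtf xT xw) 31671 11 (12 * 2 ^ 11) = true := by decide +kernel
theorem vx_b13 : allR (vtf xT xw) 31671 11 (13 * 2 ^ 11) = true := by decide +kernel
theorem vx_b14 : allR (vtf xT xw) 31671 11 (14 * 2 ^ 11) = true := by decide +kernel
theorem vx_b15 : allR (vtf xT xw) 31671 11 (15 * 2 ^ 11) = true := by decide +kernel
theorem vx_all : ∀ q, q < 31671 → (vtf xT xw) q = true := by
  refine allR_blocks (vtf xT xw) 31671 11 16 ?_ (by norm_num)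
  intro k hk
  interval_cases k
  · exact vx_b0
  · exact vx_b1
  · exact vx_b2
  · exact vx_b3
  · exact vx_b4
  · exact vx_b5
  · exact vx_b6
  · exact vx_b7
  · exact vx_b8
  · exact vx_b9
  · exact vx_b10
  · exact vx_b11
  · exact vx_b12
  · exact vx_b13
  · exact vx_b14
  · exact vx_b15
theorem px_b0 : allR (ptf xT 23) 31671 12 (0 * 2 ^ 12) = true := by decide +kernel
theorem px_b1 : allR (ptf xT 23) 31671 12 (1 * 2 ^ 12) = true := by decide +kernel
theorem px_b2 : allR (ptf xT 23) 31671 12 (2 * 2 ^ 12) = true := by decide +kernel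
theorem px_b3 : allR (ptf xT 23) 31671 12 (3 * 2 ^ 12) = true := by decide +kernel
theorem px_b4 : allR (ptf xT 23) 31671 12 (4 * 2 ^ 12) = true := by decide +kernel
theorem px_b5 : allR (ptf xT 23) 31671 12 (5 * 2 ^ 12) = true := by decide +kernel
theorem px_b6 : allR (ptf xT 23) 31671 12 (6 * 2 ^ 12) = true := by decide +kernel
theorem px_b7 : allR (ptf xT 23) 31671 12 (7 * 2 ^ 12) = true := by decide +kernel
theorem px_all : ∀ q, q < 31671 → (ptf xT 23) q = true := by
  refine allR_blocks (ptf xT 23) 31671 12 8 ?_ (by norm_num)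
  intro k hk
  interval_cases k
  · exact px_b0
  · exact px_b1
  · exact px_b2
  · exact px_b3
  · exact px_b4
  · exact px_b5
  · exact px_b6
  · exact px_b7

end Cfsg.Agent.H10.F3
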