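import Cfsg.Agent.H10.F3.Fns

/-!
# Kernel checks for the automorphisms of the presented Fi23, part T3 (helper10; generated)
-/

set_option autoImplicit false
set_option maxHeartbeats 0

namespace Cfsg.Agent.H10.F3

open Cfsg.Spor Cfsg.Agent.H35

theorem vz_b0 : allR (vtf zT zw) 31671 13 (0 * 2 ^ 13) = true := by decide +kernel
theorem vz_b1 : allR (vtf zT zw) 31671 13 (1 * 2 ^ 13) = true := by decide +kernel
theorem vz_b2 : allR (vtf zT zw) 31671 13 (2 * 2 ^ 13) = true := by decide +kernel
theorem vz_b3 : allR (vtf zT zw) 31671 13 (3 * 2 ^ 13) = true := by decide +kernel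
theorem vz_all : ∀ q, q < 31671 → (vtf zT zw) q = true := by
  refine allR_blocks (vtf zT zw) 31671 13 4 ?_ (by norm_num)
  intro k hk
  interval_cases k
  · exact vz_b0
  · exact vz_b1
  · exact vz_b2
  · exact vz_b3
theorem vxi_b0 : allR vxif 31671 14 (0 * 2 ^ 14) = true := by decide +kernel
theorem vxi_b1 : allR vxif 31671 14 (1 * 2 ^ 14) = true := by decide +kernel
theorem vxi_all : ∀ q, q < 31671 → vxif q = true := by
  refine allR_blocks vxif 31671 14 2 ?_ (by norm_num)
  intro k hk
  interval_cases k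
  · exact vxi_b0
  · exact vxi_b1
theorem pz_b0 : allR (ptf zT 13) 31671 13 (0 * 2 ^ 13) = true := by decide +kernel
theorem pz_b1 : allR (ptf zT 13) 31671 13 (1 * 2 ^ 13) = true := by decide +kernel
theorem pz_b2 : allR (ptf zT 13) 31671 13 (2 * 2 ^ 13) = true := by decide +kernel
theorem pz_b3 : allR (ptf zT 13) 31671 13 (3 * 2 ^ 13) = true := by decide +kernel
theorem pz_all : ∀ q, q < 31671 → (ptf zT 13) q = true := by
  refine allR_blocks (ptf zT 13) 31671 13 4 ?_ (by norm_num)
  intro k hk
  interval_cases k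
  · exact pz_b0
  · exact pz_b1
  · exact pz_b2
  · exact pz_b3
theorem zj_b0 : allR zjf 31671 13 (0 * 2 ^ 13) = true := by decide +kernel
theorem zj_b1 : allR zjf 31671 13 (1 * 2 ^ 13) = true := by decide +kernel
theorem zj_b2 : allR zjf 31671 13 (2 * 2 ^ 13) = true := by decide +kernel
theorem zj_b3 : allR zjf 31671 13 (3 * 2 ^ 13) = true := by decide +kernel
theorem zj_all : ∀ q, q < 31671 → zjf q = true := by
  refine allR_blocks zjf 31671 13 4 ?_ (by norm_num)
  intro k hk
  interval_cases k
  · exact zj_b0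
  · exact zj_b1
  · exact zj_b2
  · exact zj_b3
theorem c1_b0 : allR c1f 31671 15 (0 * 2 ^ 15) = true := by decide +kernel
theorem c1_all : ∀ q, q < 31671 → c1f q = true := by
  refine allR_blocks c1f 31671 15 1 ?_ (by norm_num)
  intro k hk
  interval_cases k
  · exact c1_b0
theorem t0c_a : ∀ q, q < 31671 → t0cf .a q = true :=
  allR_all _ _ 15 (by decide) (by decide +kernel)
theorem t0c_b : ∀ q, q < 31671 → t0cf .b q = true :=
  allR_all _ _ 15 (by decide) (by decide +kernel)
theorem t0c_c : ∀ q, q < 31671 → t0cf .c q = true :=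
  allR_all _ _ 15 (by decide) (by decide +kernel)
theorem t0c_d : ∀ q, q < 31671 → t0cf .d q = true :=
  allR_all _ _ 15 (by decide) (by decide +kernel)
theorem t0c_e : ∀ q, q < 31671 → t0cf .e q = true :=
  allR_all _ _ 15 (by decide) (by decide +kernel)
theorem t0c_f : ∀ q, q < 31671 → t0cf .f q = true :=
  allR_all _ _ 15 (by decide) (by decide +kernel)
theorem t0c_g : ∀ q, q < 31671 → t0cf .g q = true :=
  allR_all _ _ 15 (by decide) (by decide +kernel)
theorem t0c_h : ∀ q, q < 31671 → t0cf .h q = true :=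
  allR_all _ _ 15 (by decide) (by decide +kernel)
theorem t0c_i : ∀ q, q < 31671 → t0cf .i q = true :=
  allR_all _ _ 15 (by decide) (by decide +kernel)
theorem t0c_all : ∀ s ∈ ([.a, .b, .c, .d, .e, .f, .g, .h, .i] : List Fi23.Gen), ∀ q, q < 31671 → t0cf s q = true := by
  intro s hs
  simp only [List.mem_cons, List.not_mem_nil, or_false] at hs
  rcases hs with rfl | rfl | rfl | rfl | rfl | rfl | rfl | rfl | rfl
  · exact t0c_a
  · exact t0c_b
  · exact t0c_c
  · exact t0c_d
  · exact t0c_e
  · exact t0c_f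
  · exact t0c_g
  · exact t0c_h
  · exact t0c_i
theorem t0w_ok : tauW 0 = t0w := by decide +kernel
theorem aj_p1 : aj p1 ≠ p1 := by decide +kernel
theorem z2_ok : lk zT 2 ≠ 2 := by decide +kernel
theorem xB_ok : lk xT bN ≠ bN := by decide +kernel
theorem zB_ok : lk zT bN = bN := by decide +kernel
theorem z0_ok : lk zT 0 = 0 := by decide +kernel
theorem z1_ok : lk zT 1 = 1 := by decide +kernel
theorem tau1B_ok : wk (tauW 1) bN = 0 := by decide +kernel
theorem tau0B_ok : wk (tauW 0) bN = 1 := by decide +kernel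

end Cfsg.Agent.H10.F3
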