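import Cfsg.Agent.H10.F3.Sound
import Cfsg.Agent.H91.F3PartIP
import Cfsg.Agent.H91.F3NormP
import Cfsg.Agent.H91.F3Out1P

/-!
# The outer automorphism group of the presented Fi23 is trivial (helper10)

Assembly of the team pieces (helper91: `partIP`, `normP`, `out1P`; statements in
`Cfsg.Agent.H10.FO.Defs3`) with the certificates on the 31671-point model.
-/

set_option autoImplicit false

namespace Cfsg.Agent.H10.F3

open Cfsg Cfsg.Spor Cfsg.Agent.H35 Cfsg.Agent.H10

theorem out_fi23 : Nat.card (Cfsg.Out Fi23) = 1 := by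
  obtain ⟨ρ, M⟩ := model_exists
  haveI : Finite Fi23 := fin_finite
  have hcard : Nat.card Fi23 = 4089470473293004800 := Cfsg.Agent.H10.Fi23T.main.1
  have hI : ∀ α : MulAut Fi23, ∃ g : Fi23, α gA = g * gA * g⁻¹ :=
    Cfsg.Agent.H91.FO.partIP Fi23 13 gA gZ 314574651791769600 (by norm_num)
      (hcard.trans (by norm_num)) (by norm_num)
      (gZ_pow M) (gZ_ne M) (gA_sq M) (gA_ne M) (gA_gZ M) (hU3 M)
  have hnorm := Cfsg.Agent.H91.FO.normP Fi23 23 gX 177803064056217600 11 (by norm_num)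
    (hcard.trans (by norm_num)) (by norm_num) (by norm_num) (gX_pow M) (gX_ne M) (hC M hI)
  exact Cfsg.Agent.H91.FO.out1P Fi23 23 gX 177803064056217600 11 (by norm_num)
    (hcard.trans (by norm_num)) (by norm_num) (by norm_num) (by norm_num)
    (gX_pow M) (gX_ne M) hnorm
    (fun α hα => by obtain ⟨j, hj⟩ := lx M hI α hα; exact ⟨_, hj⟩)
    (no_inv M hI)

end Cfsg.Agent.H10.F3
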