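import Cfsg.Agent.H10.F3.Data
import Cfsg.Agent.H10.F3.Tab
import Cfsg.Agent.H9.J2.Enum

/-!
# Check functions for the automorphisms of the presented Fi23 (helper10)

All functions work on the 31671-point table `t1689_pd` of helper35 (the action on the cosets of
`⟨a, …, i⟩`); the base point is `bN = 8006`, whose stabiliser is the centraliser of the generator
`j`; a point `q` stands for the conjugate of `j` by a coset representative.
-/

set_option autoImplicit false

namespace Cfsg.Agent.H10.F3

open Cfsg.Spor Cfsg.Agent.H35 Cfsg.Agent.H9.J2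

/-- the base point -/
def bN : ℕ := 8006

/-- the second point -/
def p1 : ℕ := 36

/-- lookup in a permutation table (a trie of chunks of 16 points) -/
def lk (T : ℕ → ℕ) (p : ℕ) : ℕ :=
  frcN (Nat.shiftRight p 4)
    (fun c => Nat.land (Nat.shiftRight (T c) (Nat.mul 16 (Nat.land p 15))) 65535)

/-- the action of the generator `j` -/
noncomputable def aj (p : ℕ) : ℕ := t1689_pd.act p Fi23.Gen.j

/-- image of a point under a word, with forced intermediate points -/
noncomputable def wk : List Fi23.Gen → ℕ → ℕ := fun w =>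
  List.rec (motive := fun _ => ℕ → ℕ) (fun p => p)
    (fun x _ ih p => frcN (t1689_pd.act p x) ih) w

theorem wk_eq (w : List Fi23.Gen) (p : ℕ) : wk w p = t1689_pd.walk w p := by
  induction w generalizing p with
  | nil => rfl
  | cons x w ih =>
    show frcN (t1689_pd.act p x) (wk w) = t1689_pd.walk w (t1689_pd.act p x)
    rw [frcN_eq, ih]

/-- iterate a map of points -/
def itF (f : ℕ → ℕ) : ℕ → ℕ → ℕ
  | 0, p => p
  | k + 1, p => frcN (f p) (itF f k)

/-- a field of a record -/
def fR (r off mask : ℕ) : ℕ := Nat.land (Nat.shiftRight r off) mask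

/-- the word with the given letters (4 bits each) -/
def dec : ℕ → ℕ → List Fi23.Gen
  | 0, _ => []
  | f + 1, c => frcN (Nat.shiftRight c 4) (fun c' => fi23_gof (Nat.land c 15) :: dec f c')

/-- coset representative word of a record -/
def repFr (r : ℕ) : List Fi23.Gen := dec (fR r 114 63) (Nat.shiftRight r 120)

/-- the word of the conjugate of `j` belonging to a record -/
def tauWr (r : ℕ) : List Fi23.Gen := (repFr r).reverse ++ (Fi23.Gen.j :: repFr r)

/-- coset representative word of a point -/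
noncomputable def repF (q : ℕ) : List Fi23.Gen := repFr (recTab q)

/-- the word of the conjugate of `j` belonging to a point -/
noncomputable def tauW (q : ℕ) : List Fi23.Gen := tauWr (recTab q)

theorem tauW_eq (q : ℕ) : tauW q = (repF q).reverse ++ (Fi23.Gen.j :: repF q) := rfl

noncomputable def rk3 (u : ℕ) : ℕ := fR (recTab u) 32 32767
noncomputable def rk5 (u : ℕ) : ℕ := fR (recTab u) 63 32767

/-- letters `z, j, t` as maps of points -/
noncomputable def sF2 (t : ℕ → ℕ) : ℕ → ℕ → ℕ
  | 0 => lk zT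
  | 1 => aj
  | _ => t

/-- letters `x, t` as maps of points -/
def sF4 (xf t : ℕ → ℕ) : ℕ → ℕ → ℕ
  | 0 => xf
  | _ => t

/-- image of a point under a word in letters -/
def evL (s : ℕ → ℕ → ℕ) : List ℕ → ℕ → ℕ
  | [], p => p
  | l :: W, p => frcN (s l p) (evL s W)

/-- the map of `j z` -/
noncomputable def jzF (p : ℕ) : ℕ := frcN (aj p) (lk zT)

theorem jzF_eq : jzF = fun p => lk zT (aj p) := by
  funext p
  exact frcN_eq _ _

noncomputable def eq2 (t : ℕ → ℕ) (q : ℕ) (pr : Bool × List ℕ × Bool × List ℕ × Bool) : Bool :=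
  Nat.beq (evL (sF2 t) pr.2.1 (cond pr.1 q bN)) (evL (sF2 t) pr.2.2.2.1 (cond pr.2.2.1 q bN))

noncomputable def chk2r (r q : ℕ) : Bool :=
  cond (Nat.ble 2048 (fR r 78 4095))
    (Nat.beq q (itF jzF (fR r 78 4095 - 2048) p1))
    (eq2 (wk (tauWr r)) q (pairs2.getD (fR r 78 4095) (false, [], false, [], true)) !=
      (pairs2.getD (fR r 78 4095) (false, [], false, [], true)).2.2.2.2)

noncomputable def chk2 (q : ℕ) : Bool := frcN (recTab q) (fun r => chk2r r q)

noncomputable def pchk2 : Bool := pairs2.all (fun pr => eq2 (wk (tauW p1)) p1 pr == pr.2.2.2.2)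

def eq4 (xf t : ℕ → ℕ) (q : ℕ) (pr : List ℕ × List ℕ × Bool) : Bool :=
  Nat.beq (evL (sF4 xf t) pr.1 q) (evL (sF4 xf t) pr.2.1 q)

noncomputable def chk4r (r q : ℕ) : Bool :=
  cond (Nat.ble 2048 (fR r 90 4095))
    (Nat.beq q (itF (lk xT) (fR r 90 4095 - 2048) bN))
    (eq4 (lk xT) (wk (tauWr r)) q (pairs4.getD (fR r 90 4095) ([], [], true)) !=
      (pairs4.getD (fR r 90 4095) ([], [], true)).2.2)

noncomputable def chk4 (q : ℕ) : Bool := frcN (recTab q) (fun r => chk4r r q)

noncomputable def pchk4 : Bool := pairs4.all (fun pr => eq4 (lk xT) aj bN pr == pr.2.2)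

noncomputable def chk6r (r q : ℕ) : Bool :=
  eq4 (lk xiT) (wk (tauWr r)) q (pairs6.getD (fR r 102 4095) ([], [], true)) !=
    (pairs6.getD (fR r 102 4095) ([], [], true)).2.2

noncomputable def chk6 (q : ℕ) : Bool := frcN (recTab q) (fun r => chk6r r q)

noncomputable def pchk6 : Bool := pairs6.all (fun pr => eq4 (lk xT) aj bN pr == pr.2.2)

/-- the fixed points of `z` -/
noncomputable def c1f (p : ℕ) : Bool :=
  Nat.beq p bN || (Nat.beq p 0 || (Nat.beq p 1 || !(Nat.beq (lk zT p) p)))

noncomputable def crepf (q : ℕ) : Bool := Nat.beq (wk (repF q) bN) q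

noncomputable def c0r (r u : ℕ) : Bool :=
  Nat.beq u bN || (Nat.ble (Nat.succ (fR r 0 32767)) 31671 &&
    !(Nat.beq (wk (tauWr r) (fR r 0 32767)) (aj (fR r 0 32767))))

noncomputable def c0f (u : ℕ) : Bool := frcN (recTab u) (fun r => c0r r u)

noncomputable def c3r (r u : ℕ) : Bool :=
  Nat.beq u bN || (Nat.ble (Nat.succ (fR r 15 32767)) 31671 &&
    (Nat.beq (sF2 (wk (tauW p1)) (fR r 30 3) (fR r 15 32767)) u &&
      Nat.ble (Nat.succ (frcN (fR r 15 32767) rk3)) (fR r 32 32767)))

noncomputable def c3f (u : ℕ) : Bool := frcN (recTab u) (fun r => c3r r u)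

noncomputable def c5r (r u : ℕ) : Bool :=
  Nat.beq u bN || (Nat.ble (Nat.succ (fR r 47 32767)) 31671 &&
    (Nat.beq (sF4 (lk xT) aj (fR r 62 1) (fR r 47 32767)) u &&
      Nat.ble (Nat.succ (frcN (fR r 47 32767) rk5)) (fR r 63 32767)))

noncomputable def c5f (u : ℕ) : Bool := frcN (recTab u) (fun r => c5r r u)

/-- a table is the map of a word -/
noncomputable def vtf (T : ℕ → ℕ) (w : List Fi23.Gen) (p : ℕ) : Bool := Nat.beq (lk T p) (wk w p)

/-- the table of `x⁻¹` -/
noncomputable def vxif (p : ℕ) : Bool :=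
  frcN (lk xiT p) (fun y => Nat.ble (Nat.succ y) 31671 && Nat.beq (lk xT y) p)

/-- a power of a table is trivial -/
def ptf (T : ℕ → ℕ) (k p : ℕ) : Bool := Nat.beq (itF (lk T) k p) p

/-- `z` and `j` commute -/
noncomputable def zjf (p : ℕ) : Bool := Nat.beq (frcN (lk zT p) aj) (frcN (aj p) (lk zT))

/-- `τ₀` commutes with the generator `s` -/
noncomputable def t0cf (s : Fi23.Gen) (p : ℕ) : Bool :=
  Nat.beq (frcN (t1689_pd.act p s) (lk t0T)) (frcN (lk t0T p) (fun y => t1689_pd.act y s))

end Cfsg.Agent.H10.F3
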