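import Cfsg.Agent.H10.F3.ChkT1
import Cfsg.Agent.H10.F3.ChkT2
import Cfsg.Agent.H10.F3.ChkT3
import Cfsg.Agent.H10.F3.ChkR0
import Cfsg.Agent.H10.F3.ChkR1

/-!
# The 31671-point model of the presented Fi23 (helper10)

`Mod ρ`: `ρ` is a faithful action on the 31671 points described by helper35's table, and the
stabiliser of the point `bF = 8006` centralises the generator `j`.  Basic consequences: maps of
points representing group elements, the conjugate of `j` belonging to a point, and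
`Stab(bF) = C(j)`.
-/

set_option autoImplicit false

namespace Cfsg.Agent.H10.F3

open Cfsg Cfsg.Spor Cfsg.Agent.H35 Cfsg.Agent.H10 Cfsg.Agent.H9.J2

/-- the generator `j` -/
noncomputable def gA : Fi23 := fi23_gen Fi23.Gen.j
/-- the element of order 13 -/
noncomputable def gZ : Fi23 := uw fi23_gen zw
/-- the element of order 23 -/
noncomputable def gX : Fi23 := uw fi23_gen xw

theorem uw_a : uw fi23_gen [Fi23.Gen.j] = gA := uw_singleton _ _
theorem uw_zw : uw fi23_gen zw = gZ := rfl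
theorem uw_xw : uw fi23_gen xw = gX := rfl

/-- the base point -/
def bF : Fin 31671 := ⟨8006, by decide⟩
/-- the second point -/
def pF : Fin 31671 := ⟨36, by decide⟩

/-- the map `f` of points is the action of the group element `g` -/
def Rep (ρ : Fi23 →* Equiv.Perm (Fin 31671)) (f : ℕ → ℕ) (g : Fi23) : Prop :=
  ∀ p : Fin 31671, f p.val = ((ρ g)⁻¹ p).val

/-- the model -/
structure Mod (ρ : Fi23 →* Equiv.Perm (Fin 31671)) : Prop where
  hw : ∀ (w : List Fi23.Gen), Rep ρ (wk w) (uw fi23_gen w)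
  inj : Function.Injective ρ
  stab : ∀ g : Fi23, ρ g bF = bF → g * gA = gA * g

theorem fin_finite : Finite Fi23 := Cfsg.Agent.H10.Fi23T.top_bound.1

theorem aj_eq (p : ℕ) : aj p = wk [Fi23.Gen.j] p := by
  rw [wk_eq]; rfl

theorem act_eq (s : Fi23.Gen) (p : ℕ) : t1689_pd.act p s = wk [s] p := by
  rw [wk_eq]; rfl

theorem pmul (ρ : Fi23 →* Equiv.Perm (Fin 31671)) (g h : Fi23) (p : Fin 31671) :
    (ρ (g * h))⁻¹ p = (ρ h)⁻¹ ((ρ g)⁻¹ p) := by
  rw [map_mul, mul_inv_rev, Equiv.Perm.mul_apply]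

theorem pone (ρ : Fi23 →* Equiv.Perm (Fin 31671)) (p : Fin 31671) : (ρ 1)⁻¹ p = p := by
  rw [map_one, inv_one, Equiv.Perm.one_apply]

theorem pinv (ρ : Fi23 →* Equiv.Perm (Fin 31671)) {g : Fi23} {p q : Fin 31671}
    (h : (ρ g)⁻¹ p = q) : (ρ g⁻¹)⁻¹ q = p := by
  rw [← h, ← pmul, mul_inv_cancel, pone]

/-- composition of represented maps -/
theorem Rep.comp {ρ : Fi23 →* Equiv.Perm (Fin 31671)} {f f' : ℕ → ℕ} {g g' : Fi23}
    (h : Rep ρ f g) (h' : Rep ρ f' g') : Rep ρ (fun p => f' (f p)) (g * g') := by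
  intro p
  show f' (f p.val) = _
  rw [h p, h' _, pmul]

theorem Rep.iter {ρ : Fi23 →* Equiv.Perm (Fin 31671)} {f : ℕ → ℕ} {g : Fi23}
    (h : Rep ρ f g) (k : ℕ) : Rep ρ (itF f k) (g ^ k) := by
  induction k with
  | zero => intro p; rw [pow_zero, pone]; rfl
  | succ k ih =>
    intro p
    show frcN (f p.val) (itF f k) = _
    rw [frcN_eq, h p, ih _, pow_succ', pmul]

/-- two elements with the same maps are equal -/
theorem Rep.ext {ρ : Fi23 →* Equiv.Perm (Fin 31671)} (hinj : Function.Injective ρ)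
    {f f' : ℕ → ℕ} {g g' : Fi23} (h : Rep ρ f g) (h' : Rep ρ f' g')
    (he : ∀ p, p < 31671 → f p = f' p) : g = g' := by
  apply hinj
  have : (ρ g)⁻¹ = (ρ g')⁻¹ := by
    apply Equiv.ext
    intro p
    apply Fin.ext
    rw [← h p, ← h' p]
    exact he p.val p.isLt
  exact inv_injective this

theorem Rep.one (ρ : Fi23 →* Equiv.Perm (Fin 31671)) : Rep ρ (fun p => p) 1 := by
  intro p; rw [pone]

theorem model_exists : ∃ ρ : Fi23 →* Equiv.Perm (Fin 31671), Mod ρ := by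
  have h0 : ∃ ρ : Fi23 →* Equiv.Perm (Fin 31671),
      (∀ (w : List Fi23.Gen) (p : Fin 31671),
        t1689_pd.walk w p.val = ((ρ (uw fi23_gen w))⁻¹ p).val) ∧
      Cfsg.Agent.H10.Fi23T.Hs = stabOf ρ ⟨0, by decide⟩ := by
    obtain ⟨ρ, hw, hst, htr⟩ := tc_core Cfsg.Agent.H10.Fi23T.top_hyp (by decide : 0 < t1689_pd.N)
    exact ⟨ρ, hw, hst⟩
  obtain ⟨ρ, hw, hst⟩ := h0
  have hw' : ∀ (w : List Fi23.Gen), Rep ρ (wk w) (uw fi23_gen w) := by
    intro w p
    rw [wk_eq]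
    exact hw w p
  have hsimple : IsSimpleGroup Fi23 := Cfsg.Agent.H10.Fi23T.main.2
  have hinj : Function.Injective ρ := by
    rw [← MonoidHom.ker_eq_bot_iff]
    rcases (MonoidHom.normal_ker ρ).eq_bot_or_eq_top with h | h
    · exact h
    · exfalso
      have h1 : gA ∈ ρ.ker := by rw [h]; exact Subgroup.mem_top _
      rw [MonoidHom.mem_ker] at h1
      have h2 := hw' [Fi23.Gen.j] pF
      rw [uw_a, h1, inv_one, ← aj_eq] at h2
      exact aj_p1 h2
  refine ⟨ρ, hw', hinj, ?_⟩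
  intro g hg
  -- the representative of the point `0` and the transposition `τ₀`
  have hrep0 : (ρ (uw fi23_gen (repF 0)))⁻¹ bF = ⟨0, by decide⟩ := by
    apply Fin.ext
    rw [← hw' (repF 0) bF]
    exact Nat.eq_of_beq_eq_true (crep_all 0 (by decide))
  have hT0 : uw fi23_gen t0w = (uw fi23_gen (repF 0))⁻¹ * gA * uw fi23_gen (repF 0) := by
    rw [← t0w_ok, tauW_eq, uw_append, uw_cons, uw_reverse fi23_gen fi23_inv, ← mul_assoc]
    rfl
  have hrT0 : Rep ρ (lk t0T) (uw fi23_gen t0w) := by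
    intro p
    rw [← hw' t0w p]
    exact Nat.eq_of_beq_eq_true (vt0_all p.val p.isLt)
  have key : ∀ w ∈ t1689_sw, uw fi23_gen w * uw fi23_gen t0w = uw fi23_gen t0w * uw fi23_gen w := by
    intro w hwm
    have hs : ∃ s ∈ ([.a, .b, .c, .d, .e, .f, .g, .h, .i] : List Fi23.Gen), w = [s] := by
      rw [t1689_sw_def] at hwm
      simp only [List.mem_cons, List.not_mem_nil, or_false] at hwm
      rcases hwm with h | h | h | h | h | h | h | h | h <;> exact ⟨_, by simp, h⟩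
    obtain ⟨s, hs, rfl⟩ := hs
    have h1 := t0c_all s hs
    refine Rep.ext hinj ((hw' [s]).comp hrT0) (hrT0.comp (hw' [s])) ?_
    intro p hp
    have h2 := Nat.eq_of_beq_eq_true (h1 p hp)
    rw [frcN_eq, frcN_eq, act_eq, act_eq] at h2
    exact h2
  have hk0 : ρ ((uw fi23_gen (repF 0))⁻¹ * g * uw fi23_gen (repF 0)) ⟨0, by decide⟩ =
      ⟨0, by decide⟩ := by
    have h1 : (ρ ((uw fi23_gen (repF 0))⁻¹ * g * uw fi23_gen (repF 0)))⁻¹ ⟨0, by decide⟩ =
        ⟨0, by decide⟩ := by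
      rw [pmul, pmul, pinv ρ hrep0]
      have h2 : (ρ g)⁻¹ bF = bF := by
        rw [Equiv.Perm.inv_eq_iff_eq, hg]
      rw [h2, hrep0]
    rw [Equiv.Perm.inv_eq_iff_eq] at h1
    exact h1.symm
  have hmem : (uw fi23_gen (repF 0))⁻¹ * g * uw fi23_gen (repF 0) ∈ Cfsg.Agent.H10.Fi23T.Hs := by
    rw [hst]; exact hk0
  have hcomm : ∀ k ∈ Cfsg.Agent.H10.Fi23T.Hs, k * uw fi23_gen t0w = uw fi23_gen t0w * k := by
    intro k hk
    refine Subgroup.closure_induction (p := fun g _ => g * uw fi23_gen t0w = uw fi23_gen t0w * g)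
      ?_ ?_ ?_ ?_ hk
    · rintro x ⟨w, hwm, rfl⟩
      exact key w hwm
    · rw [one_mul, mul_one]
    · intro x y _ _ hx hy
      rw [mul_assoc, hy, ← mul_assoc, hx, mul_assoc]
    · intro x _ hx
      have : x⁻¹ * (x * uw fi23_gen t0w) * x⁻¹ = x⁻¹ * (uw fi23_gen t0w * x) * x⁻¹ := by rw [hx]
      simpa [mul_assoc] using this.symm
  have h3 := hcomm _ hmem
  rw [hT0] at h3
  generalize uw fi23_gen (repF 0) = r at h3
  calc g * gA = r * ((r⁻¹ * g * r) * (r⁻¹ * gA * r)) * r⁻¹ := by group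
    _ = r * ((r⁻¹ * gA * r) * (r⁻¹ * g * r)) * r⁻¹ := by rw [h3]
    _ = gA * g := by group

section
variable {ρ : Fi23 →* Equiv.Perm (Fin 31671)} (M : Mod ρ)
include M

theorem act_mul (g h : Fi23) (p : Fin 31671) : (ρ (g * h))⁻¹ p = (ρ h)⁻¹ ((ρ g)⁻¹ p) := pmul ρ g h p

theorem act_one (p : Fin 31671) : (ρ 1)⁻¹ p = p := pone ρ p

theorem act_inv_eq {g : Fi23} {p q : Fin 31671} (h : (ρ g)⁻¹ p = q) : (ρ g⁻¹)⁻¹ q = p := pinv ρ h

theorem act_eq_base_iff (g : Fi23) : (ρ g)⁻¹ bF = bF ↔ ρ g bF = bF := by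
  rw [Equiv.Perm.inv_eq_iff_eq, eq_comm]

theorem rep_aj : Rep ρ aj gA := by
  intro p
  rw [aj_eq, ← uw_a]
  exact M.hw _ p

theorem rep_z : Rep ρ (lk zT) gZ := by
  intro p
  exact (Nat.eq_of_beq_eq_true (vz_all p.val p.isLt)).trans (M.hw zw p)

theorem rep_x : Rep ρ (lk xT) gX := by
  intro p
  exact (Nat.eq_of_beq_eq_true (vx_all p.val p.isLt)).trans (M.hw xw p)

theorem rep_xi : Rep ρ (lk xiT) gX⁻¹ := by
  intro p
  have h := vxi_all p.val p.isLt
  unfold vxif at h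
  rw [frcN_eq, Bool.and_eq_true] at h
  obtain ⟨h1, h2⟩ := h
  have hy : lk xiT p.val < 31671 := Nat.le_of_ble_eq_true h1
  have h3 := rep_x M ⟨_, hy⟩
  have h4 : (ρ gX)⁻¹ ⟨_, hy⟩ = p := Fin.ext (h3.symm.trans (Nat.eq_of_beq_eq_true h2))
  rw [act_inv_eq M h4]

theorem gA_sq : gA * gA = 1 := fi23_inv _

theorem gA_ne : gA ≠ 1 := by
  intro h1
  have h2 := rep_aj M pF
  rw [h1, act_one M] at h2
  exact aj_p1 h2

theorem gZ_pow : gZ ^ 13 = 1 := by
  refine Rep.ext M.inj ((rep_z M).iter 13) (Rep.one ρ) ?_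
  intro p hp
  exact Nat.eq_of_beq_eq_true (pz_all p hp)

theorem gZ_ne : gZ ≠ 1 := by
  intro h1
  have h2 := rep_z M ⟨2, by decide⟩
  rw [h1, act_one M] at h2
  exact z2_ok h2

theorem gA_gZ : gA * gZ = gZ * gA := by
  refine Rep.ext M.inj ((rep_aj M).comp (rep_z M)) ((rep_z M).comp (rep_aj M)) ?_
  intro p hp
  have h := Nat.eq_of_beq_eq_true (zj_all p hp)
  rw [frcN_eq, frcN_eq] at h
  exact h.symm

theorem gX_pow : gX ^ 23 = 1 := by
  refine Rep.ext M.inj ((rep_x M).iter 23) (Rep.one ρ) ?_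
  intro p hp
  exact Nat.eq_of_beq_eq_true (px_all p hp)

theorem gX_ne : gX ≠ 1 := by
  intro h1
  have h2 := rep_x M bF
  rw [h1, act_one M] at h2
  exact xB_ok h2

/-- the coset representative of a point -/
noncomputable def rp (q : Fin 31671) : Fi23 := uw fi23_gen (repF q.val)

theorem act_rp (q : Fin 31671) : (ρ (rp q))⁻¹ bF = q := by
  apply Fin.ext
  have h := M.hw (repF q.val) bF
  have h2 := crep_all q.val q.isLt
  exact h.symm.trans (Nat.eq_of_beq_eq_true h2)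

theorem uw_tauW (q : Fin 31671) : uw fi23_gen (tauW q.val) = (rp q)⁻¹ * gA * rp q := by
  rw [tauW_eq, uw_append, uw_cons, uw_reverse fi23_gen fi23_inv, ← mul_assoc]
  rfl

/-- the conjugate of `j` depends only on the point -/
theorem wd {g h : Fi23} (hgh : (ρ g)⁻¹ bF = (ρ h)⁻¹ bF) : g⁻¹ * gA * g = h⁻¹ * gA * h := by
  have h0 : (ρ (g * h⁻¹))⁻¹ bF = bF := by
    rw [act_mul M, hgh, ← act_mul M, mul_inv_cancel, act_one M]
  have hk := M.stab _ ((act_eq_base_iff M _).mp h0)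
  calc g⁻¹ * gA * g = g⁻¹ * (gA * (g * h⁻¹)) * h := by group
    _ = g⁻¹ * (g * h⁻¹ * gA) * h := by rw [hk]
    _ = h⁻¹ * gA * h := by group

theorem tau_eq {g : Fi23} {q : Fin 31671} (hg : (ρ g)⁻¹ bF = q) :
    uw fi23_gen (tauW q.val) = g⁻¹ * gA * g := by
  rw [uw_tauW M]
  exact wd M (by rw [act_rp M, hg])

/-- the stabiliser of `bF` is the centraliser of `j` -/
theorem cs {g : Fi23} (hg : g * gA = gA * g) : (ρ g)⁻¹ bF = bF := by
  by_contra hne
  have h1 := tau_eq M (g := g) (q := (ρ g)⁻¹ bF) rfl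
  have h2 : g⁻¹ * gA * g = gA := by rw [mul_assoc, ← hg, ← mul_assoc, inv_mul_cancel, one_mul]
  rw [h2] at h1
  have h3 := c0_all ((ρ g)⁻¹ bF).val ((ρ g)⁻¹ bF).isLt
  unfold c0f at h3
  rw [frcN_eq] at h3
  unfold c0r at h3
  rw [Bool.or_eq_true] at h3
  rcases h3 with h3 | h3
  · exact hne (Fin.ext (Nat.eq_of_beq_eq_true h3))
  · rw [Bool.and_eq_true] at h3
    obtain ⟨h4, h5⟩ := h3
    have hy : fR (recTab ((ρ g)⁻¹ bF).val) 0 32767 < 31671 := Nat.le_of_ble_eq_true h4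
    have e1 := M.hw (tauW ((ρ g)⁻¹ bF).val) ⟨_, hy⟩
    have e2 := rep_aj M ⟨_, hy⟩
    rw [h1] at e1
    have e3 : wk (tauWr (recTab ((ρ g)⁻¹ bF).val)) (fR (recTab ((ρ g)⁻¹ bF).val) 0 32767) =
        aj (fR (recTab ((ρ g)⁻¹ bF).val) 0 32767) := e1.trans e2.symm
    rw [e3] at h5
    simp at h5

theorem cs_iff (g : Fi23) : (ρ g)⁻¹ bF = bF ↔ g * gA = gA * g :=
  ⟨fun h => M.stab _ ((act_eq_base_iff M _).mp h), cs M⟩

end

end Cfsg.Agent.H10.F3
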