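import Cfsg.Agent.H10.F3.Model
import Cfsg.Agent.H10.F3.Chk2a
import Cfsg.Agent.H10.F3.Chk2b
import Cfsg.Agent.H10.F3.Chk4a
import Cfsg.Agent.H10.F3.Chk4b
import Cfsg.Agent.H10.F3.Chk4c
import Cfsg.Agent.H10.F3.Chk4d
import Cfsg.Agent.H10.F3.Chk6a
import Cfsg.Agent.H10.F3.Chk6b
import Cfsg.Agent.H10.F3.Chk6c
import Cfsg.Agent.H10.F3.Chk6d

/-!
# Soundness of the certificates for Fi23 (helper10)

* `hU3`: every involution commuting with the element `z` of order 13 is conjugate to `j`;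
* `lx`: an automorphism fixing the element `x` of order 23 is conjugation by a power of `x`
  (given that automorphisms map `j` to conjugates of `j`);
* `no_inv`: no automorphism inverts `x`;
* `hC`: the centraliser of `x` is generated by `x`.
-/

set_option autoImplicit false

namespace Cfsg.Agent.H10.F3

open Cfsg Cfsg.Spor Cfsg.Agent.H35 Cfsg.Agent.H10 Cfsg.Agent.H9.J2

/-- letters `z, j, t` as group elements -/
noncomputable def sG2 (t : Fi23) : ℕ → Fi23
  | 0 => gZ
  | 1 => gA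
  | _ => t

/-- letters `x, t` as group elements -/
def sG4 (x t : Fi23) : ℕ → Fi23
  | 0 => x
  | _ => t

/-- group element of a word in letters -/
def ewL (s : ℕ → Fi23) : List ℕ → Fi23
  | [] => 1
  | l :: W => s l * ewL s W

theorem conj_ewL (e : Fi23) (s1 s2 : ℕ → Fi23)
    (h : ∀ l, e * s2 l = s1 l * e) (W : List ℕ) :
    e * ewL s2 W = ewL s1 W * e := by
  induction W with
  | nil => simp [ewL]
  | cons l W ih => rw [ewL, ewL, ← mul_assoc, h, mul_assoc, ih, mul_assoc]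

theorem hom_ewL (α : MulAut Fi23) (s1 s2 : ℕ → Fi23)
    (h : ∀ l, α (s1 l) = s2 l) (W : List ℕ) :
    α (ewL s1 W) = ewL s2 W := by
  induction W with
  | nil => simp [ewL]
  | cons l W ih => rw [ewL, ewL, map_mul, h, ih]

theorem beq_congr {a b c d : ℕ} (h : a = b ↔ c = d) : Nat.beq a b = Nat.beq c d := by
  rw [Bool.eq_iff_iff]
  constructor
  · intro h1
    have := h.mp (Nat.eq_of_beq_eq_true h1)
    subst this
    exact Nat.beq_refl _
  · intro h1
    have := h.mpr (Nat.eq_of_beq_eq_true h1)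
    subst this
    exact Nat.beq_refl _

theorem chk2_all : ∀ q, q < 31671 → chk2 q = true := by
  refine allR_blocks chk2 31671 10 31 ?_ (by norm_num)
  intro k hk
  interval_cases k
  · exact c2_b0
  · exact c2_b1
  · exact c2_b2
  · exact c2_b3
  · exact c2_b4
  · exact c2_b5
  · exact c2_b6
  · exact c2_b7
  · exact c2_b8
  · exact c2_b9
  · exact c2_b10
  · exact c2_b11
  · exact c2_b12
  · exact c2_b13
  · exact c2_b14
  · exact c2_b15
  · exact c2_b16
  · exact c2_b17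
  · exact c2_b18
  · exact c2_b19
  · exact c2_b20
  · exact c2_b21
  · exact c2_b22
  · exact c2_b23
  · exact c2_b24
  · exact c2_b25
  · exact c2_b26
  · exact c2_b27
  · exact c2_b28
  · exact c2_b29
  · exact c2_b30

theorem chk4_all : ∀ q, q < 31671 → chk4 q = true := by
  refine allR_blocks chk4 31671 10 31 ?_ (by norm_num)
  intro k hk
  interval_cases k
  · exact c4_b0
  · exact c4_b1
  · exact c4_b2
  · exact c4_b3
  · exact c4_b4
  · exact c4_b5
  · exact c4_b6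
  · exact c4_b7
  · exact c4_b8
  · exact c4_b9
  · exact c4_b10
  · exact c4_b11
  · exact c4_b12
  · exact c4_b13
  · exact c4_b14
  · exact c4_b15
  · exact c4_b16
  · exact c4_b17
  · exact c4_b18
  · exact c4_b19
  · exact c4_b20
  · exact c4_b21
  · exact c4_b22
  · exact c4_b23
  · exact c4_b24
  · exact c4_b25
  · exact c4_b26
  · exact c4_b27
  · exact c4_b28
  · exact c4_b29
  · exact c4_b30

theorem chk6_all : ∀ q, q < 31671 → chk6 q = true := by
  refine allR_blocks chk6 31671 10 31 ?_ (by norm_num)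
  intro k hk
  interval_cases k
  · exact c6_b0
  · exact c6_b1
  · exact c6_b2
  · exact c6_b3
  · exact c6_b4
  · exact c6_b5
  · exact c6_b6
  · exact c6_b7
  · exact c6_b8
  · exact c6_b9
  · exact c6_b10
  · exact c6_b11
  · exact c6_b12
  · exact c6_b13
  · exact c6_b14
  · exact c6_b15
  · exact c6_b16
  · exact c6_b17
  · exact c6_b18
  · exact c6_b19
  · exact c6_b20
  · exact c6_b21
  · exact c6_b22
  · exact c6_b23
  · exact c6_b24
  · exact c6_b25
  · exact c6_b26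
  · exact c6_b27
  · exact c6_b28
  · exact c6_b29
  · exact c6_b30

/-- an involution on three points has a fixed point -/
theorem inv3 {α : Type} (f : α → α) (hf : ∀ p, f (f p) = p) (a b c : α)
    (ha : f a = a ∨ f a = b ∨ f a = c) (hb : f b = a ∨ f b = b ∨ f b = c)
    (hc : f c = a ∨ f c = b ∨ f c = c) (hab : a ≠ b) (hac : a ≠ c) (hbc : b ≠ c) :
    f a = a ∨ f b = b ∨ f c = c := by
  rcases ha with ha | ha | ha
  · exact Or.inl ha
  · have hb' : f b = a := by rw [← ha, hf]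
    rcases hc with hc | hc | hc
    · exfalso
      have h1 : f (f c) = f (f b) := by rw [hc, hb']
      rw [hf, hf] at h1
      exact hbc h1.symm
    · exfalso
      have h1 : f (f c) = f (f a) := by rw [hc, ha]
      rw [hf, hf] at h1
      exact hac h1.symm
    · exact Or.inr (Or.inr hc)
  · have hc' : f c = a := by rw [← ha, hf]
    rcases hb with hb | hb | hb
    · exfalso
      have h1 : f (f b) = f (f c) := by rw [hb, hc']
      rw [hf, hf] at h1
      exact hbc h1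
    · exact Or.inr (Or.inl hb)
    · exfalso
      have h1 : f (f b) = f (f a) := by rw [hb, ha]
      rw [hf, hf] at h1
      exact hab h1.symm

section
variable {ρ : Fi23 →* Equiv.Perm (Fin 31671)} (M : Mod ρ)
include M

theorem evL_eq (sF : ℕ → ℕ → ℕ) (sG : ℕ → Fi23) (h : ∀ l, Rep ρ (sF l) (sG l)) (W : List ℕ)
    (y : Fin 31671) : evL sF W y.val = ((ρ (ewL sG W))⁻¹ y).val := by
  induction W generalizing y with
  | nil => rw [evL, ewL, act_one M]
  | cons l W ih => rw [evL, frcN_eq, ewL, act_mul M, h l y, ih]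

theorem rep_sF2 (t : ℕ → ℕ) (tg : Fi23) (ht : Rep ρ t tg) : ∀ l, Rep ρ (sF2 t l) (sG2 tg l) := by
  intro l
  match l with
  | 0 => exact rep_z M
  | 1 => exact rep_aj M
  | (l + 2) => exact ht

theorem rep_sF4 (xf t : ℕ → ℕ) (xg tg : Fi23) (hx : Rep ρ xf xg) (ht : Rep ρ t tg) :
    ∀ l, Rep ρ (sF4 xf t l) (sG4 xg tg l) := by
  intro l
  match l with
  | 0 => exact hx
  | (l + 1) => exact ht

theorem act_eq_iff (g h : Fi23) (p : Fin 31671) :
    (ρ g)⁻¹ p = (ρ h)⁻¹ p ↔ (ρ (g * h⁻¹))⁻¹ p = p := by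
  constructor
  · intro hh
    rw [act_mul M, hh, ← act_mul M, mul_inv_cancel, act_one M]
  · intro hh
    rw [act_mul M] at hh
    have := act_inv_eq M hh
    rw [inv_inv] at this
    exact this.symm

/-- an element commuting with everything is trivial -/
theorem central_one (k : Fi23) (hk : ∀ y, k * y = y * k) : k = 1 := by
  apply M.inj
  rw [map_one]
  have h0 : (ρ k)⁻¹ bF = bF := cs M (hk gA)
  have : (ρ k)⁻¹ = 1 := by
    apply Equiv.ext
    intro u
    rw [Equiv.Perm.one_apply]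
    have h1 : (ρ k)⁻¹ ((ρ (rp u))⁻¹ bF) = (ρ (rp u))⁻¹ bF := by
      rw [← act_mul M, ← hk, act_mul M, h0]
    rw [act_rp M] at h1
    exact h1
  exact inv_eq_one.mp this

/-- centraliser of the conjugate belonging to a point -/
theorem csq {r0 h : Fi23} {q : Fin 31671} (hr : (ρ r0)⁻¹ bF = q) :
    h * (r0⁻¹ * gA * r0) = (r0⁻¹ * gA * r0) * h ↔ (ρ h)⁻¹ q = q := by
  have h1 : h * (r0⁻¹ * gA * r0) = (r0⁻¹ * gA * r0) * h ↔
      (r0 * h * r0⁻¹) * gA = gA * (r0 * h * r0⁻¹) := by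
    constructor
    · intro hh
      calc r0 * h * r0⁻¹ * gA = r0 * (h * (r0⁻¹ * gA * r0)) * r0⁻¹ := by group
        _ = r0 * ((r0⁻¹ * gA * r0) * h) * r0⁻¹ := by rw [hh]
        _ = gA * (r0 * h * r0⁻¹) := by group
    · intro hh
      calc h * (r0⁻¹ * gA * r0) = r0⁻¹ * (r0 * h * r0⁻¹ * gA) * r0 := by group
        _ = r0⁻¹ * (gA * (r0 * h * r0⁻¹)) * r0 := by rw [hh]
        _ = r0⁻¹ * gA * r0 * h := by group
  rw [h1, ← cs_iff M, act_mul M, act_mul M, hr]
  constructor
  · intro hh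
    have := act_inv_eq M hh
    rw [inv_inv, hr] at this
    exact this.symm
  · intro hh
    rw [hh]; exact act_inv_eq M hr

theorem eq2_transfer (e : Fi23) (q : Fin 31671) (he0 : (ρ e)⁻¹ bF = bF)
    (heq : (ρ e)⁻¹ pF = q)
    (h : ∀ l, e * sG2 (uw fi23_gen (tauW q.val)) l = sG2 (uw fi23_gen (tauW p1)) l * e)
    (pr : Bool × List ℕ × Bool × List ℕ × Bool) :
    eq2 (wk (tauW q.val)) q.val pr = eq2 (wk (tauW p1)) p1 pr := by
  have hst : ∀ b : Bool, cond b q.val bN = ((ρ e)⁻¹ (cond b pF bF : Fin 31671)).val ∧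
      cond b p1 bN = (cond b pF bF : Fin 31671).val := by
    intro b
    cases b
    · exact ⟨by show bN = ((ρ e)⁻¹ bF).val; rw [he0]; rfl, rfl⟩
    · exact ⟨by show q.val = ((ρ e)⁻¹ pF).val; rw [heq], rfl⟩
  have key : ∀ (W : List ℕ) (y : Fin 31671),
      evL (sF2 (wk (tauW q.val))) W ((ρ e)⁻¹ y).val =
        ((ρ e)⁻¹ ((ρ (ewL (sG2 (uw fi23_gen (tauW p1))) W))⁻¹ y)).val := by
    intro W y
    rw [evL_eq M _ _ (rep_sF2 M _ _ (M.hw _)), ← act_mul M, conj_ewL e _ _ h W, act_mul M]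
  have key1 : ∀ (W : List ℕ) (y : Fin 31671),
      evL (sF2 (wk (tauW p1))) W y.val =
        ((ρ (ewL (sG2 (uw fi23_gen (tauW p1))) W))⁻¹ y).val :=
    fun W y => evL_eq M _ _ (rep_sF2 M _ _ (M.hw _)) W y
  unfold eq2
  rw [(hst pr.1).1, (hst pr.2.2.1).1, (hst pr.1).2, (hst pr.2.2.1).2, key, key, key1, key1]
  apply beq_congr
  rw [Fin.val_inj, Fin.val_inj, Equiv.apply_eq_iff_eq]

/-- `j` is the only involution commuting with `z` and fixing the base point -/
theorem hU0 (e : Fi23) (he2 : e * e = 1) (he1 : e ≠ 1) (hez : e * gZ = gZ * e)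
    (he0 : (ρ e)⁻¹ bF = bF) : e = gA := by
  have hea : e * gA = gA * e := (cs_iff M e).mp he0
  obtain ⟨q, hq⟩ : ∃ q : Fin 31671, (ρ e)⁻¹ pF = q := ⟨_, rfl⟩
  have hrp1 : (ρ (rp pF))⁻¹ bF = pF := act_rp M _
  have hτ : e * uw fi23_gen (tauW q.val) = uw fi23_gen (tauW p1) * e := by
    have h1 : uw fi23_gen (tauW p1) = (rp pF)⁻¹ * gA * rp pF := uw_tauW M pF
    have h2 : uw fi23_gen (tauW q.val) = (rp pF * e)⁻¹ * gA * (rp pF * e) :=
      tau_eq M (by rw [act_mul M, hrp1, hq])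
    rw [h1, h2]; group
  have hl : ∀ l, e * sG2 (uw fi23_gen (tauW q.val)) l = sG2 (uw fi23_gen (tauW p1)) l * e := by
    intro l
    match l with
    | 0 => exact hez
    | 1 => exact hea
    | (l + 2) => exact hτ
  have hc := chk2_all q.val q.isLt
  unfold chk2 at hc
  rw [frcN_eq] at hc
  unfold chk2r at hc
  cases hb : Nat.ble 2048 (fR (recTab q.val) 78 4095) with
  | false =>
    exfalso
    rw [hb] at hc
    simp only [cond_false] at hc
    have htr := eq2_transfer M e q he0 hq hl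
    change ∀ pr, eq2 (wk (tauWr (recTab q.val))) q.val pr = eq2 (wk (tauW p1)) p1 pr at htr
    rw [htr] at hc
    rcases getD_mem_or pairs2 (fR (recTab q.val) 78 4095) (false, [], false, [], true) with hm | hm
    · have h3 := (List.all_eq_true.mp pchk2_ok) _ hm
      exact (bne_iff_ne.mp hc) (beq_iff_eq.mp h3)
    · rw [hm] at hc
      simp [eq2, evL] at hc
  | true =>
    rw [hb] at hc
    simp only [cond_true] at hc
    obtain ⟨t, ht⟩ : ∃ t : ℕ, fR (recTab q.val) 78 4095 - 2048 = t := ⟨_, rfl⟩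
    rw [ht] at hc
    have hjz : Rep ρ jzF (gA * gZ) := by
      rw [jzF_eq]; exact (rep_aj M).comp (rep_z M)
    have hq0 : (ρ ((gA * gZ) ^ t))⁻¹ pF = q := by
      apply Fin.ext
      rw [← (hjz.iter t) pF]
      exact (Nat.eq_of_beq_eq_true hc).symm
    have cAZ : Commute gA gZ := gA_gZ M
    have c1 : Commute ((gA * gZ) ^ t) gZ := ((cAZ.mul_left (Commute.refl gZ))).pow_left t
    have c2 : Commute ((gA * gZ) ^ t) gA := (((Commute.refl gA).mul_left cAZ.symm)).pow_left t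
    -- e' = e * g0⁻¹ fixes everything
    have hZ' : (e * ((gA * gZ) ^ t)⁻¹) * gZ = gZ * (e * ((gA * gZ) ^ t)⁻¹) := by
      rw [mul_assoc, (c1.inv_left).eq, ← mul_assoc, hez, mul_assoc]
    have hA' : (e * ((gA * gZ) ^ t)⁻¹) * gA = gA * (e * ((gA * gZ) ^ t)⁻¹) := by
      rw [mul_assoc, (c2.inv_left).eq, ← mul_assoc, hea, mul_assoc]
    have hp' : (ρ (e * ((gA * gZ) ^ t)⁻¹))⁻¹ pF = pF := by
      rw [act_mul M, hq]; exact act_inv_eq M hq0
    have hT' : (e * ((gA * gZ) ^ t)⁻¹) * uw fi23_gen (tauW p1) =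
        uw fi23_gen (tauW p1) * (e * ((gA * gZ) ^ t)⁻¹) := by
      have h1 : uw fi23_gen (tauW p1) = (rp pF)⁻¹ * gA * rp pF := uw_tauW M pF
      have h2 : uw fi23_gen (tauW p1) =
          (rp pF * (e * ((gA * gZ) ^ t)⁻¹))⁻¹ * gA * (rp pF * (e * ((gA * gZ) ^ t)⁻¹)) :=
        tau_eq M (q := pF) (by rw [act_mul M, hrp1, hp'])
      rw [h1] at h2 ⊢
      generalize e * ((gA * gZ) ^ t)⁻¹ = e' at h2 ⊢
      generalize rp pF = r at h2 ⊢
      calc e' * (r⁻¹ * gA * r) = e' * ((r * e')⁻¹ * gA * (r * e')) := by rw [← h2]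
        _ = r⁻¹ * gA * r * e' := by group
    have hfix : ∀ n : ℕ, ∀ u : Fin 31671, rk3 u.val = n →
        (ρ (e * ((gA * gZ) ^ t)⁻¹))⁻¹ u = u := by
      intro n
      induction n using Nat.strong_induction_on with
      | _ n ih =>
        intro u hn
        have hc3 := c3_all u.val u.isLt
        unfold c3f at hc3
        rw [frcN_eq] at hc3
        unfold c3r at hc3
        rw [frcN_eq, Bool.or_eq_true] at hc3
        rcases hc3 with hc3 | hc3
        · have hu : u = bF := Fin.ext (Nat.eq_of_beq_eq_true hc3)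
          rw [hu]
          exact cs M hA'
        · simp only [Bool.and_eq_true] at hc3
          obtain ⟨h1, h2, h3⟩ := hc3
          have hv : fR (recTab u.val) 15 32767 < 31671 := Nat.le_of_ble_eq_true h1
          have hrk : rk3 (fR (recTab u.val) 15 32767) < rk3 u.val := Nat.le_of_ble_eq_true h3
          have hℓu : (ρ (sG2 (uw fi23_gen (tauW p1)) (fR (recTab u.val) 30 3)))⁻¹
              ⟨fR (recTab u.val) 15 32767, hv⟩ = u := by
            apply Fin.ext
            rw [← rep_sF2 M (wk (tauW p1)) _ (M.hw _) (fR (recTab u.val) 30 3) ⟨_, hv⟩]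
            exact Nat.eq_of_beq_eq_true h2
          have hcomm : (e * ((gA * gZ) ^ t)⁻¹) * sG2 (uw fi23_gen (tauW p1)) (fR (recTab u.val) 30 3) =
              sG2 (uw fi23_gen (tauW p1)) (fR (recTab u.val) 30 3) * (e * ((gA * gZ) ^ t)⁻¹) := by
            generalize fR (recTab u.val) 30 3 = l
            match l with
            | 0 => exact hZ'
            | 1 => exact hA'
            | (l + 2) => exact hT'
          have hiv := ih _ (hn ▸ hrk) ⟨fR (recTab u.val) 15 32767, hv⟩ rfl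
          rw [← hℓu, ← act_mul M, ← hcomm, act_mul M, hiv]
    have he' : e * ((gA * gZ) ^ t)⁻¹ = 1 := by
      apply M.inj
      rw [map_one]
      have : (ρ (e * ((gA * gZ) ^ t)⁻¹))⁻¹ = 1 := by
        apply Equiv.ext
        intro u
        rw [Equiv.Perm.one_apply]
        exact hfix _ u rfl
      exact inv_eq_one.mp this
    have hee : e = (gA * gZ) ^ t := by
      rw [← mul_inv_eq_one]; exact he'
    have hpow : (gA * gZ) ^ t = gA ^ t * gZ ^ t := cAZ.mul_pow t
    have hA2t : gA ^ (2 * t) = 1 := by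
      rw [pow_mul, pow_two, gA_sq M, one_pow]
    have hZ2t : gZ ^ (2 * t) = 1 := by
      have h1 : e ^ 2 = 1 := by rw [pow_two]; exact he2
      rw [hee, ← pow_mul, mul_comm t 2, cAZ.mul_pow, hA2t, one_mul] at h1
      exact h1
    haveI : Fact (Nat.Prime 13) := ⟨by norm_num⟩
    have hord : orderOf gZ = 13 := orderOf_eq_prime (gZ_pow M) (gZ_ne M)
    have hdvd : 13 ∣ t := by
      have h1 : 13 ∣ 2 * t := by rw [← hord]; exact orderOf_dvd_of_pow_eq_one hZ2t
      rcases (Nat.Prime.dvd_mul (by norm_num)).mp h1 with h2 | h2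
      · norm_num at h2
      · exact h2
    have hZt : gZ ^ t = 1 := by
      rw [← hord] at hdvd
      exact orderOf_dvd_iff_pow_eq_one.mp hdvd
    rw [hpow, hZt, mul_one] at hee
    rcases Nat.even_or_odd t with ⟨k, hk⟩ | ⟨k, hk⟩
    · exfalso
      apply he1
      rw [hee, hk, ← two_mul, pow_mul, pow_two, gA_sq M, one_pow]
    · rw [hee, hk, pow_succ, pow_mul, pow_two, gA_sq M, one_pow, one_mul]

/-- an involution commuting with `z` and fixing a point in the orbit of the centraliser of `z` -/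
theorem hU_conj (u : Fin 31671) (c : Fi23) (hc : (ρ c)⁻¹ bF = u) (hcz : c * gZ = gZ * c)
    (e : Fi23) (he2 : e * e = 1) (he1 : e ≠ 1) (hez : e * gZ = gZ * e)
    (heu : (ρ e)⁻¹ u = u) : ∃ g : Fi23, e = g * gA * g⁻¹ := by
  have h1 : c * e * c⁻¹ = gA := by
    apply hU0 M
    · calc c * e * c⁻¹ * (c * e * c⁻¹) = c * (e * e) * c⁻¹ := by group
        _ = 1 := by rw [he2]; group
    · intro h
      apply he1
      calc e = c⁻¹ * (c * e * c⁻¹) * c := by group
        _ = 1 := by rw [h]; group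
    · have hcz' : c⁻¹ * gZ = gZ * c⁻¹ := by
        calc c⁻¹ * gZ = c⁻¹ * (gZ * c) * c⁻¹ := by group
          _ = c⁻¹ * (c * gZ) * c⁻¹ := by rw [hcz]
          _ = gZ * c⁻¹ := by group
      calc c * e * c⁻¹ * gZ = c * e * (c⁻¹ * gZ) := by rw [mul_assoc]
        _ = c * e * (gZ * c⁻¹) := by rw [hcz']
        _ = c * (e * gZ) * c⁻¹ := by group
        _ = c * (gZ * e) * c⁻¹ := by rw [hez]
        _ = (c * gZ) * e * c⁻¹ := by group
        _ = gZ * c * e * c⁻¹ := by rw [hcz]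
        _ = gZ * (c * e * c⁻¹) := by group
    · rw [act_mul M, act_mul M, hc, heu]
      exact act_inv_eq M hc
  refine ⟨c⁻¹, ?_⟩
  rw [inv_inv, ← h1]; group

/-- every involution commuting with `z` is conjugate to `j` -/
theorem hU3 (e : Fi23) (he2 : e * e = 1) (he1 : e ≠ 1) (hez : e * gZ = gZ * e) :
    ∃ g : Fi23, e = g * gA * g⁻¹ := by
  have hfz : ∀ p : Fin 31671, (ρ gZ)⁻¹ p = p → p = bF ∨ p = ⟨0, by decide⟩ ∨ p = ⟨1, by decide⟩ := by
    intro p hp
    have h2 := c1_all p.val p.isLt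
    unfold c1f at h2
    simp only [Bool.or_eq_true] at h2
    rcases h2 with h2 | h2 | h2 | h2
    · exact Or.inl (Fin.ext (Nat.eq_of_beq_eq_true h2))
    · exact Or.inr (Or.inl (Fin.ext (Nat.eq_of_beq_eq_true h2)))
    · exact Or.inr (Or.inr (Fin.ext (Nat.eq_of_beq_eq_true h2)))
    · exfalso
      have h3 := rep_z M p
      rw [hp] at h3
      rw [h3] at h2
      simp at h2
  have hzB : (ρ gZ)⁻¹ bF = bF := Fin.ext ((rep_z M bF).symm.trans zB_ok)
  have hz0 : (ρ gZ)⁻¹ ⟨0, by decide⟩ = ⟨0, by decide⟩ :=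
    Fin.ext ((rep_z M ⟨0, by decide⟩).symm.trans z0_ok)
  have hz1 : (ρ gZ)⁻¹ ⟨1, by decide⟩ = ⟨1, by decide⟩ :=
    Fin.ext ((rep_z M ⟨1, by decide⟩).symm.trans z1_ok)
  have hmap : ∀ p : Fin 31671, (ρ gZ)⁻¹ p = p → (ρ gZ)⁻¹ ((ρ e)⁻¹ p) = (ρ e)⁻¹ p := by
    intro p hp
    rw [← act_mul M, hez, act_mul M, hp]
  have hinv : ∀ p : Fin 31671, (ρ e)⁻¹ ((ρ e)⁻¹ p) = p := by
    intro p
    rw [← act_mul M, he2, act_one M]
  have h3 := inv3 (fun p => (ρ e)⁻¹ p) hinv bF ⟨0, by decide⟩ ⟨1, by decide⟩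
    (hfz _ (hmap _ hzB)) (hfz _ (hmap _ hz0)) (hfz _ (hmap _ hz1))
    (by decide) (by decide) (by decide)
  -- the transpositions of the points `1` and `0` commute with `z`
  have hcomm : ∀ u : Fin 31671, (ρ gZ)⁻¹ u = u →
      uw fi23_gen (tauW u.val) * gZ = gZ * uw fi23_gen (tauW u.val) := by
    intro u hu
    rw [uw_tauW M u]
    exact ((csq M (h := gZ) (act_rp M u)).mpr hu).symm
  rcases h3 with h3 | h3 | h3
  · exact hU_conj M bF 1 (act_one M _) (by rw [one_mul, mul_one]) e he2 he1 hez h3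
  · refine hU_conj M ⟨0, by decide⟩ (uw fi23_gen (tauW 1)) ?_ (hcomm ⟨1, by decide⟩ hz1)
      e he2 he1 hez h3
    exact Fin.ext ((M.hw (tauW 1) bF).symm.trans tau1B_ok)
  · refine hU_conj M ⟨1, by decide⟩ (uw fi23_gen (tauW 0)) ?_ (hcomm ⟨0, by decide⟩ hz0)
      e he2 he1 hez h3
    exact Fin.ext ((M.hw (tauW 0) bF).symm.trans tau0B_ok)

/-- an automorphism fixing `x` and `j` is trivial -/
theorem fix_of_gens (β : MulAut Fi23) (hx : β gX = gX) (ha : β gA = gA) : β = 1 := by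
  have key : ∀ n : ℕ, ∀ u : Fin 31671, rk5 u.val = n → ∀ g : Fi23, (ρ g)⁻¹ bF = u →
      β (g⁻¹ * gA * g) = g⁻¹ * gA * g := by
    intro n
    induction n using Nat.strong_induction_on with
    | _ n ih =>
      intro u hn g hg
      have hc := c5_all u.val u.isLt
      unfold c5f at hc
      rw [frcN_eq] at hc
      unfold c5r at hc
      rw [frcN_eq, Bool.or_eq_true] at hc
      rcases hc with hc | hc
      · have hu : u = bF := Fin.ext (Nat.eq_of_beq_eq_true hc)
        rw [hu] at hg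
        have hcomm := (cs_iff M g).mp hg
        have : g⁻¹ * gA * g = gA := by
          rw [mul_assoc, ← hcomm, ← mul_assoc, inv_mul_cancel, one_mul]
        rw [this, ha]
      · simp only [Bool.and_eq_true] at hc
        obtain ⟨h1, h2, h3⟩ := hc
        have hv : fR (recTab u.val) 47 32767 < 31671 := Nat.le_of_ble_eq_true h1
        have hrk : rk5 (fR (recTab u.val) 47 32767) < rk5 u.val := Nat.le_of_ble_eq_true h3
        have hℓu : (ρ (sG4 gX gA (fR (recTab u.val) 62 1)))⁻¹ ⟨fR (recTab u.val) 47 32767, hv⟩ = u := by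
          apply Fin.ext
          rw [← rep_sF4 M (lk xT) aj gX gA (rep_x M) (rep_aj M) (fR (recTab u.val) 62 1) ⟨_, hv⟩]
          exact Nat.eq_of_beq_eq_true h2
        have hβℓ : β (sG4 gX gA (fR (recTab u.val) 62 1)) = sG4 gX gA (fR (recTab u.val) 62 1) := by
          generalize fR (recTab u.val) 62 1 = l
          match l with
          | 0 => exact hx
          | (l + 1) => exact ha
        generalize sG4 gX gA (fR (recTab u.val) 62 1) = ℓ at hℓu hβℓ
        have hg' : (ρ (g * ℓ⁻¹))⁻¹ bF = ⟨fR (recTab u.val) 47 32767, hv⟩ := by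
          rw [act_mul M, hg]; exact act_inv_eq M hℓu
        have hiv := ih _ (hn ▸ hrk) ⟨fR (recTab u.val) 47 32767, hv⟩ rfl (g * ℓ⁻¹) hg'
        have e1 : (g * ℓ⁻¹)⁻¹ * gA * (g * ℓ⁻¹) = ℓ * (g⁻¹ * gA * g) * ℓ⁻¹ := by group
        rw [e1, map_mul, map_mul, map_inv, hβℓ] at hiv
        exact mul_left_cancel (mul_right_cancel hiv)
  have hall : ∀ g : Fi23, β (g⁻¹ * gA * g) = g⁻¹ * gA * g := fun g => key _ _ rfl g rfl
  haveI hsimple : IsSimpleGroup Fi23 := Cfsg.Agent.H10.Fi23T.main.2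
  have hN : Subgroup.closure (Group.conjugatesOfSet ({gA} : Set Fi23)) = ⊤ := by
    have hn : (Subgroup.normalClosure ({gA} : Set Fi23)).Normal := Subgroup.normalClosure_normal
    rcases hn.eq_bot_or_eq_top with h | h
    · exfalso
      have h1 : gA ∈ Subgroup.normalClosure ({gA} : Set Fi23) :=
        Subgroup.subset_normalClosure (Set.mem_singleton _)
      rw [h, Subgroup.mem_bot] at h1
      exact gA_ne M h1
    · exact h
  have : β.toMonoidHom = MonoidHom.id Fi23 := by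
    apply MonoidHom.eq_of_eqOn_dense hN
    intro y hy
    rw [Group.mem_conjugatesOfSet_iff] at hy
    obtain ⟨a, ha', hc⟩ := hy
    rw [Set.mem_singleton_iff] at ha'
    subst ha'
    rw [isConj_iff] at hc
    obtain ⟨c, hc⟩ := hc
    have h1 := hall c⁻¹
    rw [inv_inv, hc] at h1
    exact h1
  ext y
  exact DFunLike.congr_fun this y

theorem eq4_transfer (α : MulAut Fi23) (g : Fi23) (q : Fin 31671) (hq : (ρ g⁻¹)⁻¹ bF = q)
    (hg : α gA = g * gA * g⁻¹) (xf : ℕ → ℕ) (xg : Fi23) (hxf : Rep ρ xf xg) (hx : α gX = xg)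
    (pr : List ℕ × List ℕ × Bool) :
    eq4 xf (wk (tauW q.val)) q.val pr = eq4 (lk xT) aj bN pr := by
  have hτ : uw fi23_gen (tauW q.val) = α gA := by
    rw [tau_eq M hq, inv_inv, hg]
  have hl : ∀ l, α (sG4 gX gA l) = sG4 xg (uw fi23_gen (tauW q.val)) l := by
    intro l
    match l with
    | 0 => exact hx
    | (l + 1) => exact hτ.symm
  unfold eq4
  have e0 : ∀ W, evL (sF4 (lk xT) aj) W bN = ((ρ (ewL (sG4 gX gA) W))⁻¹ bF).val :=
    fun W => evL_eq M _ _ (rep_sF4 M _ _ _ _ (rep_x M) (rep_aj M)) W bF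
  have e1 : ∀ W, evL (sF4 xf (wk (tauW q.val))) W q.val =
      ((ρ (ewL (sG4 xg (uw fi23_gen (tauW q.val))) W))⁻¹ q).val :=
    fun W => evL_eq M _ _ (rep_sF4 M _ _ _ _ hxf (M.hw _)) W q
  rw [e1, e1, e0, e0, ← hom_ewL α _ _ hl, ← hom_ewL α _ _ hl]
  apply beq_congr
  rw [Fin.val_inj, Fin.val_inj, act_eq_iff M, act_eq_iff M (ewL _ pr.1), cs_iff M]
  have hcs := csq M (r0 := g⁻¹) (h := α (ewL (sG4 gX gA) pr.1) * (α (ewL (sG4 gX gA) pr.2.1))⁻¹) hq
  rw [inv_inv] at hcs
  rw [← hcs, ← hg, ← map_inv, ← map_mul, ← map_mul, ← map_mul, EquivLike.apply_eq_iff_eq]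

/-- an automorphism fixing `x` is conjugation by a power of `x` -/
theorem lx (hI : ∀ α : MulAut Fi23, ∃ g : Fi23, α gA = g * gA * g⁻¹) (α : MulAut Fi23)
    (hx : α gX = gX) : ∃ j : ℕ, α = MulAut.conj (gX ^ j)⁻¹ := by
  obtain ⟨g, hg⟩ := hI α
  obtain ⟨q, hq⟩ : ∃ q : Fin 31671, (ρ g⁻¹)⁻¹ bF = q := ⟨_, rfl⟩
  have hτ : uw fi23_gen (tauW q.val) = α gA := by
    rw [tau_eq M hq, inv_inv, hg]
  have hc := chk4_all q.val q.isLt
  unfold chk4 at hc
  rw [frcN_eq] at hc
  unfold chk4r at hc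
  cases hb : Nat.ble 2048 (fR (recTab q.val) 90 4095) with
  | true =>
    rw [hb] at hc
    simp only [cond_true] at hc
    obtain ⟨j, hj⟩ : ∃ j : ℕ, fR (recTab q.val) 90 4095 - 2048 = j := ⟨_, rfl⟩
    rw [hj] at hc
    refine ⟨j, ?_⟩
    have hqj : (ρ (gX ^ j))⁻¹ bF = q := by
      apply Fin.ext
      rw [← ((rep_x M).iter j) bF]
      exact (Nat.eq_of_beq_eq_true hc).symm
    have hαa : α gA = (gX ^ j)⁻¹ * gA * gX ^ j := by rw [← hτ]; exact tau_eq M hqj
    have hβ : MulAut.conj (gX ^ j) * α = 1 := by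
      apply fix_of_gens M
      · rw [MulAut.mul_apply, hx, MulAut.conj_apply, ← pow_succ, pow_succ', mul_assoc,
          mul_inv_cancel, mul_one]
      · rw [MulAut.mul_apply, hαa, MulAut.conj_apply]; group
    rw [map_inv]
    exact eq_inv_of_mul_eq_one_right hβ
  | false =>
    exfalso
    rw [hb] at hc
    simp only [cond_false] at hc
    have htr := eq4_transfer M α g q hq hg (lk xT) gX (rep_x M) hx
    change ∀ pr, eq4 (lk xT) (wk (tauWr (recTab q.val))) q.val pr = eq4 (lk xT) aj bN pr at htr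
    rw [htr] at hc
    rcases getD_mem_or pairs4 (fR (recTab q.val) 90 4095) ([], [], true) with hm | hm
    · have h3 := (List.all_eq_true.mp pchk4_ok) _ hm
      exact (bne_iff_ne.mp hc) (beq_iff_eq.mp h3)
    · rw [hm] at hc
      simp [eq4, evL] at hc

/-- no automorphism inverts `x` -/
theorem no_inv (hI : ∀ α : MulAut Fi23, ∃ g : Fi23, α gA = g * gA * g⁻¹) (α : MulAut Fi23) :
    α gX ≠ gX⁻¹ := by
  intro hx
  obtain ⟨g, hg⟩ := hI α
  obtain ⟨q, hq⟩ : ∃ q : Fin 31671, (ρ g⁻¹)⁻¹ bF = q := ⟨_, rfl⟩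
  have hc := chk6_all q.val q.isLt
  unfold chk6 at hc
  rw [frcN_eq] at hc
  unfold chk6r at hc
  have htr := eq4_transfer M α g q hq hg (lk xiT) gX⁻¹ (rep_xi M) hx
  change ∀ pr, eq4 (lk xiT) (wk (tauWr (recTab q.val))) q.val pr = eq4 (lk xT) aj bN pr at htr
  rw [htr] at hc
  rcases getD_mem_or pairs6 (fR (recTab q.val) 102 4095) ([], [], true) with hm | hm
  · have h3 := (List.all_eq_true.mp pchk6_ok) _ hm
    exact (bne_iff_ne.mp hc) (beq_iff_eq.mp h3)
  · rw [hm] at hc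
    simp [eq4, evL] at hc

/-- the centraliser of `x` -/
theorem hC (hI : ∀ α : MulAut Fi23, ∃ g : Fi23, α gA = g * gA * g⁻¹) (g : Fi23)
    (hg : g * gX = gX * g) : ∃ i : ℕ, g = gX ^ i := by
  have h1 : MulAut.conj g gX = gX := by
    rw [MulAut.conj_apply, hg, mul_assoc, mul_inv_cancel, mul_one]
  obtain ⟨j, hj⟩ := lx M hI (MulAut.conj g) h1
  refine ⟨22 * j, ?_⟩
  have h2 : (gX ^ j)⁻¹ = gX ^ (22 * j) := by
    rw [inv_eq_iff_eq_inv, eq_inv_iff_mul_eq_one, ← pow_add]
    rw [show j + 22 * j = 23 * j by ring, pow_mul, gX_pow M, one_pow]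
  rw [← h2]
  have h3 : ((gX ^ j)⁻¹)⁻¹ * g = 1 := by
    apply central_one M
    intro y
    have h4 := DFunLike.congr_fun hj y
    rw [MulAut.conj_apply, MulAut.conj_apply] at h4
    generalize (gX ^ j)⁻¹ = c at h4 ⊢
    calc c⁻¹ * g * y = c⁻¹ * (g * y * g⁻¹) * g := by group
      _ = c⁻¹ * (c * y * c⁻¹) * g := by rw [h4]
      _ = y * (c⁻¹ * g) := by group
  exact (inv_mul_eq_one.mp h3).symm

end

end Cfsg.Agent.H10.F3
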